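import Groth.Agent.Dix.VertForm

/-!
# Intersection numbers with vertical curves on schemes proper over a discrete valuation ring

The lemmas of `Groth.Agent.Dix.InterSurf` (which assume `ArSurf.IsArithSurface`) under the sole hypothesis
that `X` is proper over `Spec R`.  The notions `dd`, `hz`, `gp`, `fn`, `prin` are those of
`Groth.Agent.Dix.InterSurf` and `Groth.Agent.Dix.VertForm`; `hz_congr`, `gp_mem_iff`,
`ker_eq_of_gp_mem`, `prin_le_ker`, `genOn_prin`, `isEff_prin` there need no hypothesis on `X` beyond flatness.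
-/

set_option autoImplicit false
universe u

open CategoryTheory CategoryTheory.Limits AlgebraicGeometry Opposite TopologicalSpace

namespace Groth.Agent.Models.H39.InterProper

open Groth.Agent.Dix.IdealModCartier Groth.Agent.Dix.InterNum Groth.Agent.Dix.VertGeom
open Groth.Agent.Divis.EffCartier Groth.Agent.Divis.IdealComap
open Groth.Agent.Dix.IdealQuot Groth.Agent.Dix.InterSurf Groth.Agent.Dix.VertForm
open Groth.Agent.Fdesc.LocGen

variable {R : Type u} [CommRing R] [IsDomain R] [IsDiscreteValuationRing R]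

variable {X : Over (Spec (CommRingCat.of R))} [IsProper X.hom]

/-- A vertical component of a proper scheme is proper over the residue field. -/
lemma isProper_curve (Γ : ArSurf.VertComp R X) :
    IsProper (Γ.curve.left ↘ Spec (CommRingCat.of (IsLocalRing.ResidueField R))) := by
  have h1 : IsProper (Γ.curve.hom ≫ Spec.map (CommRingCat.ofHom (IsLocalRing.residue R))) := by
    rw [← Γ.w]
    infer_instance
  have h2 : IsSeparated (Spec.map (CommRingCat.ofHom (IsLocalRing.residue R))) := inferInstance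
  exact IsProper.of_comp Γ.curve.hom (Spec.map (CommRingCat.ofHom (IsLocalRing.residue R)))

lemma inter_eq (L : X.left.Modules) (Γ : ArSurf.VertComp R X) :
    ArSurf.inter R X L Γ = Curv2.deg (IsLocalRing.ResidueField R) Γ.curve.left
      ((Scheme.Modules.pullback Γ.ι).obj L) 1 := by
  have := isProper_curve Γ
  exact curveDeg_eq _ _ Γ.dim_eq _

lemma inter_congr {L L' : X.left.Modules} (e : L ≅ L')
    (Γ : ArSurf.VertComp R X) : ArSurf.inter R X L Γ = ArSurf.inter R X L' Γ := by
  have := isProper_curve Γ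
  rw [inter_eq, inter_eq]
  exact deg_congr _ _ Γ.dim_eq ((Scheme.Modules.pullback Γ.ι).mapIso e)

lemma inter_unit (Γ : ArSurf.VertComp R X) :
    ArSurf.inter R X (Coh.structureModule X.left) Γ = 0 := by
  have := isProper_curve Γ
  rw [inter_eq, deg_congr _ _ Γ.dim_eq (CurvesA.HHMap.pullbackUnit Γ.ι), deg_unit]

lemma inter_tensor {L M : X.left.Modules}
    (hL : PicF.IsInvertible L) (hM : PicF.IsInvertible M) (Γ : ArSurf.VertComp R X) :
    ArSurf.inter R X (CohB1.tensorMod L M) Γ = ArSurf.inter R X L Γ + ArSurf.inter R X M Γ := by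
  have := isProper_curve Γ
  obtain ⟨e⟩ := pullback_tensorMod Γ.ι hL hM
  rw [inter_eq, inter_eq, inter_eq, deg_congr _ _ Γ.dim_eq e]
  exact deg_tensor _ _ Γ.dim_eq (Fdesc.LocGen.isInvertible_pullback Γ.ι hL)
    (Fdesc.LocGen.isInvertible_pullback Γ.ι hM)

lemma inter_inverse {L M : X.left.Modules}
    (h : ClSub.IsInverseOf L M) (Γ : ArSurf.VertComp R X) :
    ArSurf.inter R X L Γ = - ArSurf.inter R X M Γ := by
  obtain ⟨hL, hM⟩ := isInvertible_of_isInverseOf h
  obtain ⟨e⟩ := h
  have h1 := inter_tensor hL hM Γ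
  rw [inter_congr e, inter_unit] at h1
  linarith

lemma dd_mul (Γ : ArSurf.VertComp R X) {D E : X.left.IdealSheafData}
    (hD : BlowUp.IsEffCartierIdeal D) (hE : BlowUp.IsEffCartierIdeal E) :
    dd Γ (D * E) = dd Γ D + dd Γ E := by
  obtain ⟨e⟩ := idealMod_mul hD hE
  unfold dd
  rw [← inter_congr e, inter_tensor (isInvertible_idealMod hD) (isInvertible_idealMod hE)]

lemma dd_one (Γ : ArSurf.VertComp R X) :
    dd Γ (1 : X.left.IdealSheafData) = 0 := by
  have h : BlowUp.IsEffCartierIdeal (1 : X.left.IdealSheafData) := by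
    rw [Scheme.IdealSheafData.one_eq_top]; exact isEff_top
  have := dd_mul Γ h h
  rw [one_mul] at this
  linarith

lemma dd_pow (Γ : ArSurf.VertComp R X) {D : X.left.IdealSheafData}
    (hD : BlowUp.IsEffCartierIdeal D) (n : ℕ) : dd Γ (D ^ n) = n * dd Γ D := by
  induction n with
  | zero => simpa using dd_one Γ
  | succ n ih => rw [pow_succ, dd_mul Γ (isEff_pow hD n) hD, ih]; push_cast; ring

lemma dd_prod (Γ : ArSurf.VertComp R X) {ι : Type*}
    (P : ι → X.left.IdealSheafData) (hP : ∀ i, BlowUp.IsEffCartierIdeal (P i)) (S : Finset ι)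
    (d : ι → ℕ) : dd Γ (∏ i ∈ S, P i ^ d i) = ∑ i ∈ S, (d i : ℤ) * dd Γ (P i) := by
  classical
  induction S using Finset.induction_on with
  | empty => simpa using dd_one Γ
  | insert t S htS ih =>
    rw [Finset.prod_insert htS, Finset.sum_insert htS, dd_mul Γ (isEff_pow (hP t) _)
      (isEff_prod P hP S d), dd_pow Γ (hP t), ih]

/-- Intersection number with an effective divisor not containing the component. -/
theorem dd_eq (Γ : ArSurf.VertComp R X) {D : X.left.IdealSheafData}
    (hD : BlowUp.IsEffCartierIdeal D) (h : gp Γ ∉ D.support) : dd Γ D = - (hz Γ D : ℤ) := by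
  have := isProper_curve Γ
  have hD' := isEff_comap_of_generic Γ.ι hD h
  obtain ⟨e⟩ := pullback_idealMod Γ.ι hD hD'
  obtain ⟨N, -, ⟨f⟩⟩ := Grpsch.PicGrp.exists_inverse (isInvertible_idealMod hD')
  have hinv : ClSub.IsInverseOf N (ClSub.idealMod (D.comap Γ.ι)) := ⟨Ega2.Tens.swap _ _ ≪≫ f⟩
  have h1 := deg_of_effCartier (IsLocalRing.ResidueField R) Γ.curve.left Γ.dim_eq _ hD' N hinv
  have h2 := deg_inverse (IsLocalRing.ResidueField R) Γ.curve.left Γ.dim_eq hinv
  unfold dd
  rw [inter_eq, deg_congr _ _ Γ.dim_eq e, hz]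
  rw [finrank_quotMod] at h1
  rw [h2] at h1
  exact neg_eq_iff_eq_neg.1 h1

/-- The degree on `Γ` of a module inverse to the ideal `D` is `- dd Γ D`. -/
lemma inter_of_isInverseOf {L : X.left.Modules} {D : X.left.IdealSheafData}
    (h : ClSub.IsInverseOf L (ClSub.idealMod D)) (Γ : ArSurf.VertComp R X) :
    ArSurf.inter R X L Γ = - dd Γ D := inter_inverse h Γ

/-- The degree on `Γ` of `O_X(D)`, `D` an effective Cartier divisor not containing `Γ`. -/
theorem inter_eq_hz {L : X.left.Modules} {D : X.left.IdealSheafData}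
    (h : ClSub.IsInverseOf L (ClSub.idealMod D)) (Γ : ArSurf.VertComp R X) (hn : gp Γ ∉ D.support) :
    ArSurf.inter R X L Γ = (hz Γ D : ℤ) := by
  rw [inter_of_isInverseOf h, dd_eq Γ (isEffCartierIdeal_of_isInverseOf h) hn, neg_neg]

lemma dd_prin [Flat X.hom] (Γ : ArSurf.VertComp R X) {t : R} (ht : t ≠ 0) :
    dd Γ (prin X t) = 0 := by
  obtain ⟨e⟩ := idealMod_principal (genOn_prin (X := X) ht)
  unfold dd
  rw [← inter_congr e, inter_unit]

/-- `dd` only depends on the kernel, for divisors not containing the component. -/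
lemma dd_congr_ker {Γ Γ' : ArSurf.VertComp R X}
    (h : Γ.ι.ker = Γ'.ι.ker) {D : X.left.IdealSheafData} (hD : BlowUp.IsEffCartierIdeal D)
    (hn : gp Γ ∉ D.support) : dd Γ D = dd Γ' D := by
  have hn' : gp Γ' ∉ D.support := by
    rwa [gp_mem_iff, ← h, ← gp_mem_iff]
  rw [dd_eq Γ hD hn, dd_eq Γ' hD hn', hz_congr Γ Γ' D D (by rw [h])]

/-- Distinct vertical prime divisors (distinct ideals): the generic point of one is not on the other. -/
lemma gp_notMem_of_ker_ne {Γ Γ' : ArSurf.VertComp R X} (h : Γ.ι.ker ≠ Γ'.ι.ker) :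
    gp Γ ∉ Γ'.ι.ker.support := fun h' => h (ker_eq_of_gp_mem Γ Γ' h')

/-- Equal ideals iff equal underlying sets. -/
lemma ker_eq_iff_range_eq (Γ Γ' : ArSurf.VertComp R X) :
    Γ.ι.ker = Γ'.ι.ker ↔ Set.range (Γ.ι.base : Γ.curve.left → X.left) =
      Set.range (Γ'.ι.base : Γ'.curve.left → X.left) := by
  constructor
  · intro h
    ext x
    have h1 := mem_support_ker_iff Γ.ι x
    have h2 := mem_support_ker_iff Γ'.ι x
    rw [h] at h1
    exact h1.symm.trans h2
  · intro h
    apply ker_eq_of_gp_mem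
    rw [mem_support_ker_iff]
    change _ ∈ Set.range (Γ'.ι.base : Γ'.curve.left → X.left)
    rw [← h]
    exact ⟨genericPoint Γ.curve.left, rfl⟩

/-- The intersection number of two distinct vertical prime divisors is the `k`-dimension of the ring of
functions of their scheme-theoretic intersection. -/
theorem inter_eq_hz_of_ker_ne {Γ Γ' : ArSurf.VertComp R X} {L' : X.left.Modules}
    (h : ClSub.IsInverseOf L' (ClSub.idealMod Γ'.ι.ker)) (hne : Γ.ι.ker ≠ Γ'.ι.ker) :
    ArSurf.inter R X L' Γ = (hz Γ Γ'.ι.ker : ℤ) :=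
  inter_eq_hz h Γ (gp_notMem_of_ker_ne hne)

/-- Symmetry of intersection numbers of distinct vertical prime divisors. -/
theorem inter_comm_of_ker_ne {Γ Γ' : ArSurf.VertComp R X} {L L' : X.left.Modules}
    (hL : ClSub.IsInverseOf L (ClSub.idealMod Γ.ι.ker))
    (hL' : ClSub.IsInverseOf L' (ClSub.idealMod Γ'.ι.ker)) (hne : Γ.ι.ker ≠ Γ'.ι.ker) :
    ArSurf.inter R X L' Γ = ArSurf.inter R X L Γ' := by
  rw [inter_eq_hz_of_ker_ne hL' hne, inter_eq_hz_of_ker_ne hL hne.symm,
    hz_congr Γ Γ' _ _ (sup_comm _ _)]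

/-- Intersection numbers of distinct vertical prime divisors are non-negative. -/
theorem inter_nonneg_of_ker_ne {Γ Γ' : ArSurf.VertComp R X} {L' : X.left.Modules}
    (h : ClSub.IsInverseOf L' (ClSub.idealMod Γ'.ι.ker)) (hne : Γ.ι.ker ≠ Γ'.ι.ker) :
    0 ≤ ArSurf.inter R X L' Γ := by
  rw [inter_eq_hz_of_ker_ne h hne]
  positivity

end Groth.Agent.Models.H39.InterProper
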